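import Groth.Agent.AmpleThick17.SqZero
import Groth.Agent.AmpleDesc5.RelStage

/-!
# Ampleness along an arbitrary thickening
-/

set_option autoImplicit false
set_option maxHeartbeats 1000000
set_option linter.style.haveILetI false
set_option backward.isDefEq.respectTransparency.types false
set_option backward.isDefEq.respectTransparency false

universe u

open CategoryTheory CategoryTheory.Limits AlgebraicGeometry TopologicalSpace Opposite

namespace Groth.Agent.AmpleThick17

open Groth.Agent MorLib.Thick

/-- Ampleness of a pullback along two equal composites. -/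
theorem isAmple_pullback_congr {X Y P : Scheme.{u}} (a : X ⟶ Y) (b : Y ⟶ P) (c : X ⟶ P) (h : a ≫ b = c)
    {L : P.Modules}
    (hL : CohB1.IsAmple ((Scheme.Modules.pullback a).obj ((Scheme.Modules.pullback b).obj L))) :
    CohB1.IsAmple ((Scheme.Modules.pullback c).obj L) :=
  AmpleX.isAmple_of_iso ((Scheme.Modules.pullbackComp a b).app L ≪≫ (Scheme.Modules.pullbackCongr h).app L) hL

theorem isAmple_pullback_congr' {X Y P : Scheme.{u}} (a : X ⟶ Y) (b : Y ⟶ P) (c : X ⟶ P) (h : a ≫ b = c)
    {L : P.Modules} (hL : CohB1.IsAmple ((Scheme.Modules.pullback c).obj L)) :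
    CohB1.IsAmple ((Scheme.Modules.pullback a).obj ((Scheme.Modules.pullback b).obj L)) :=
  AmpleX.isAmple_of_iso ((Scheme.Modules.pullbackComp a b).app L ≪≫ (Scheme.Modules.pullbackCongr h).app L).symm hL

/-- An invertible module is ample if its restriction along a surjective closed immersion is. -/
theorem isAmple_of_thickening {X X' : Scheme.{u}} (t : X ⟶ X') [IsClosedImmersion t]
    (ht : Function.Surjective t) {L : X'.Modules} (hL : PicF.IsInvertible L)
    (hA : CohB1.IsAmple ((Scheme.Modules.pullback t).obj L)) : CohB1.IsAmple L := by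
  classical
  haveI : CompactSpace X := hA.2.1
  haveI : X.IsSeparated := AmpleX.isSeparated_of_isAmple hA
  haveI := compact_of_surjective t ht
  haveI := qs_of_surjective t ht
  by_contra hna
  let T : Set X'.IdealSheafData :=
    {K | K ≤ t.ker ∧ ¬ CohB1.IsAmple ((Scheme.Modules.pullback K.subschemeι).obj L)}
  have hbot : ⊥ ∈ T := ⟨bot_le, fun h => hna <| by
    haveI : IsIso (⊥ : X'.IdealSheafData).subschemeι :=
      IsClosedImmersion.isIso_iff_ker_eq_bot.mpr (by simp)
    exact AmpleX.isAmple_of_iso ((Scheme.Modules.pullbackId X').app L)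
      (isAmple_pullback_congr _ _ (𝟙 X') (IsIso.inv_hom_id (⊥ : X'.IdealSheafData).subschemeι)
        (AmpleVan.FiniteSurj.isAmple_pullback_of_isAffineHom (inv (⊥ : X'.IdealSheafData).subschemeι) h))⟩
  have hsub : ∀ K : X'.IdealSheafData, CompactSpace K.subscheme ∧ QuasiSeparatedSpace K.subscheme :=
    fun K => ⟨QuasiCompact.compactSpace_of_compactSpace K.subschemeι,
      quasiSeparatedSpace_of_quasiSeparated K.subschemeι⟩
  obtain ⟨K, hK⟩ := zorn_le₀ T fun c hcT hc => by
    rcases c.eq_empty_or_nonempty with rfl | hne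
    · exact ⟨⊥, hbot, fun z hz => absurd hz (Set.notMem_empty z)⟩
    refine ⟨sSup c, ⟨sSup_le fun z hz => (hcT hz).1, fun haff => ?_⟩, fun z hz => le_sSup hz⟩
    haveI : Nonempty c := hne.to_subtype
    haveI : Nonempty (↥c)ᵒᵈ := ‹Nonempty c›
    haveI : IsDirectedOrder (↥c) := ⟨fun a b => (hc.total a.2 b.2).elim
      (fun h => ⟨b, h, le_rfl⟩) (fun h => ⟨a, le_rfl, h⟩)⟩
    haveI : IsCofiltered (↥c)ᵒᵈ := inferInstance
    haveI : ∀ {i j : (↥c)ᵒᵈ} (f : i ⟶ j), IsAffineHom ((MorLib.Thick.diag c).map f) := fun {i j} f => by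
      let f' : (OrderDual.ofDual i).1.subscheme ⟶ (OrderDual.ofDual j).1.subscheme :=
        Scheme.IdealSheafData.inclusion (show _ ≤ _ from f.le)
      haveI : IsClosedImmersion (f' ≫ (OrderDual.ofDual j).1.subschemeι) := by
        simp [f']; infer_instance
      haveI : IsClosedImmersion f' :=
        IsClosedImmersion.of_comp f' (OrderDual.ofDual j).1.subschemeι
      exact inferInstanceAs (IsAffineHom f')
    haveI : ∀ i, CompactSpace ((MorLib.Thick.diag c).obj i) := fun i => (hsub _).1
    haveI : ∀ i, QuasiSeparatedSpace ((MorLib.Thick.diag c).obj i) := fun i => (hsub _).2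
    let i : (↥c)ᵒᵈ := OrderDual.toDual (Classical.arbitrary c)
    have hMi : PicF.IsInvertible ((Scheme.Modules.pullback (OrderDual.ofDual i).1.subschemeι).obj L) :=
      PicClLib.isInvertible_pullback _ hL
    obtain ⟨j, φ, hj⟩ := AmpleDesc5.exists_isAmple_pullback_stage (MorLib.Thick.diag c) (MorLib.Thick.isLimitCone c hc) (i := i) hMi
      (isAmple_pullback_congr' _ _ _ (Scheme.IdealSheafData.inclusion_subschemeι _) haff)
    exact (hcT (OrderDual.ofDual j).2).2
      (isAmple_pullback_congr _ _ _ (Scheme.IdealSheafData.inclusion_subschemeι _) hj)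
  obtain ⟨hKt, hKna⟩ := hK.1
  apply hKna
  haveI := (hsub K).1
  haveI := (hsub K).2
  let t' : X ⟶ K.subscheme := IsClosedImmersion.lift K.subschemeι t (by simpa using hKt)
  have ht'ι : t' ≫ K.subschemeι = t := IsClosedImmersion.lift_fac ..
  haveI : IsClosedImmersion (t' ≫ K.subschemeι) := by rw [ht'ι]; infer_instance
  haveI : IsClosedImmersion t' := IsClosedImmersion.of_comp t' K.subschemeι
  have ht' : Function.Surjective t' := fun p => by
    obtain ⟨x, hx⟩ := ht (K.subschemeι p)
    refine ⟨x, K.subschemeι.isClosedEmbedding.injective ?_⟩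
    rw [← Scheme.Hom.comp_apply, ht'ι, hx]
  by_cases hne' : t'.ker = ⊥
  · haveI := IsClosedImmersion.isIso_iff_ker_eq_bot.mpr hne'
    exact isAmple_pullback_congr (inv t') t _ (by simp [← ht'ι])
      (AmpleVan.FiniteSurj.isAmple_pullback_of_isAffineHom (inv t') hA)
  obtain ⟨J, hJ, hJ0, hJsq⟩ := exists_sqZero_le t' ht' hne'
  have hKL : K ≤ J.map K.subschemeι := by
    calc K = (⊥ : K.subscheme.IdealSheafData).map K.subschemeι := by simp
      _ ≤ J.map K.subschemeι := Scheme.IdealSheafData.map_mono _ bot_le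
  have hLt : J.map K.subschemeι ≤ t.ker :=
    calc J.map K.subschemeι ≤ t'.ker.map K.subschemeι := Scheme.IdealSheafData.map_mono _ hJ
      _ = t.ker := by rw [Scheme.IdealSheafData.map_ker, ht'ι]
  let l : J.subscheme ⟶ (J.map K.subschemeι).subscheme :=
    Scheme.IdealSheafData.subschemeMap J (J.map K.subschemeι) K.subschemeι le_rfl
  have hl : l ≫ (J.map K.subschemeι).subschemeι = J.subschemeι ≫ K.subschemeι := by simp [l]
  haveI : IsIso l := IsClosedImmersion.isIso_of_ker_eq (J.subschemeι ≫ K.subschemeι)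
    (J.map K.subschemeι).subschemeι l (by simp [l])
    (by simp [Scheme.IdealSheafData.map])
  haveI : CompactSpace J.subscheme := QuasiCompact.compactSpace_of_compactSpace J.subschemeι
  haveI : CompactSpace (J.map K.subschemeι).subscheme := (hsub _).1
  have hQ : CohB1.IsAmple ((Scheme.Modules.pullback J.subschemeι).obj
      ((Scheme.Modules.pullback K.subschemeι).obj L)) := by
    by_contra hJna
    have hmem : J.map K.subschemeι ∈ T :=
      ⟨hLt, fun h => hJna (isAmple_pullback_congr' _ _ _ rfl (isAmple_pullback_congr _ _ _ hl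
        (AmpleVan.FiniteSurj.isAmple_pullback_of_isAffineHom l h)))⟩
    have hge := hK.2 hmem hKL
    haveI : IsIso J.subschemeι := IsClosedImmersion.isIso_of_ker_eq (J.subschemeι ≫ K.subschemeι)
      K.subschemeι J.subschemeι rfl
      (by rw [Scheme.IdealSheafData.ker_subschemeι]; exact le_antisymm hge hKL)
    exact hJ0 (by rw [← J.ker_subschemeι]; exact Scheme.Hom.ker_eq_bot_of_isIso _)
  have hs : Function.Surjective J.subschemeι := fun p => by
    obtain ⟨x, rfl⟩ := ht' p
    refine ⟨IsClosedImmersion.lift J.subschemeι t' (by simpa using hJ) x, ?_⟩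
    rw [← Scheme.Hom.comp_apply, IsClosedImmersion.lift_fac]
  refine isAmple_of_sqZero J.subschemeι hs (fun U hU a b ha hb => hJsq ⟨U, hU⟩ a ?_ b ?_)
    (PicClLib.isInvertible_pullback _ hL) hQ
  all_goals
    rw [← Scheme.IdealSheafData.ker_subschemeι_app J ⟨U, hU⟩, RingHom.mem_ker]
    assumption

/-- Ampleness is insensitive to thickenings. -/
theorem isAmple_pullback_iff {X X' : Scheme.{u}} (t : X ⟶ X') [IsClosedImmersion t]
    (ht : Function.Surjective t) {L : X'.Modules} (hL : PicF.IsInvertible L) :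
    CohB1.IsAmple ((Scheme.Modules.pullback t).obj L) ↔ CohB1.IsAmple L := by
  refine ⟨isAmple_of_thickening t ht hL, fun h => ?_⟩
  haveI : CompactSpace X' := h.2.1
  haveI : CompactSpace X := QuasiCompact.compactSpace_of_compactSpace t
  exact AmpleVan.FiniteSurj.isAmple_pullback_of_isAffineHom t h

end Groth.Agent.AmpleThick17
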