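import Groth.Agent.MorLib.Thick.QuasiAffine
import Groth.Agent.AmpleX.Sect
import Groth.Agent.AmpleX.Extend
import Groth.Agent.AmpleX.Separated
import Groth.Agent.AmpleX.Pow

/-!
# Ampleness along a square-zero thickening
-/

set_option autoImplicit false
set_option maxHeartbeats 1000000
set_option linter.style.haveILetI false
set_option linter.unusedSectionVars false
set_option backward.isDefEq.respectTransparency.types false
set_option backward.isDefEq.respectTransparency false

universe u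

open CategoryTheory AlgebraicGeometry TopologicalSpace Opposite
open Groth.Agent.H23.PicMul

namespace Groth.Agent.AmpleThick17

open Groth.Agent MorLib.Thick

theorem pow_sub_of_sq {R : Type u} [CommRing R] (a b : R) (h : (a - b) * (a - b) = 0) (n : ℕ) :
    a ^ (n + 1) - b ^ (n + 1) = ((n + 1 : ℕ) : R) * (a ^ n * (a - b)) :=
  MorLib.Thick.pow_succ_sub a b h n

variable {Z₀ Z : Scheme.{u}} (t : Z₀ ⟶ Z) {L : Z.Modules}

lemma pullElt_add {U : Z.Opens} (a b : Γ(L, U)) :
    InvX.pullElt t (a + b) = InvX.pullElt t a + InvX.pullElt t b :=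
  map_add (((Scheme.Modules.pullbackPushforwardAdjunction t).unit.app L).app U).hom a b

lemma pullElt_zero {U : Z.Opens} : InvX.pullElt t (0 : Γ(L, U)) = 0 :=
  map_zero (((Scheme.Modules.pullbackPushforwardAdjunction t).unit.app L).app U).hom

variable [IsClosedImmersion t]

/-- Sections of an invertible sheaf lift from a closed subscheme of an affine open. -/
theorem exists_pullElt_eq (hL : PicF.IsInvertible L) {W : Z.Opens} (hW : IsAffineOpen W)
    (s : Γ((Scheme.Modules.pullback t).obj L, t ⁻¹ᵁ W)) : ∃ σ : Γ(L, W), InvX.pullElt t σ = s := by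
  classical
  let I' : Ideal Γ(Z, W) :=
    { carrier := {r | ∃ e : Γ(L, W), InvX.pullElt t e = t.app W r • s}
      add_mem' := fun {a b} ha hb => by
        obtain ⟨e, he⟩ := ha
        obtain ⟨e', he'⟩ := hb
        exact ⟨e + e', by rw [pullElt_add, he, he', map_add, add_smul]⟩
      zero_mem' := ⟨0, by rw [pullElt_zero, map_zero, zero_smul]⟩
      smul_mem' := fun a r hr => by
        obtain ⟨e, he⟩ := hr
        exact ⟨a • e, by rw [InvX.pullElt_smul, he, smul_eq_mul, map_mul, mul_smul]⟩ }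
  suffices hI : (1 : Γ(Z, W)) ∈ I' by
    obtain ⟨e, he⟩ := hI
    exact ⟨e, by rw [he, map_one, one_smul]⟩
  rw [← Ideal.eq_top_iff_one, ← Ideal.span_eq I', ← hW.iSup_basicOpen_eq_self_iff]
  refine le_antisymm (iSup_le fun f => Z.basicOpen_le _) fun p hp => ?_
  obtain ⟨V₀, hpV₀, e₀, he₀⟩ := InvX.exists_frame hL p
  obtain ⟨r, hr, hpr⟩ := hW.exists_basicOpen_le (V := V₀) ⟨p, hpV₀⟩ hp
  let D : Z.Opens := Z.basicOpen r
  have hDW : D ≤ W := Z.basicOpen_le r
  let e : Γ(L, D) := AModX.res L hr e₀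
  have he : InvX.IsFrame e := he₀.res hr
  obtain ⟨g, hg⟩ := (InvX.isFrame_pullElt t he).exists_coord le_rfl
    (AModX.res _ (t.preimage_mono hDW) s)
  rw [AModX.res_self] at hg
  obtain ⟨G, hG⟩ := t.app_surjective D (hW.basicOpen r) g
  obtain ⟨n, a, ha⟩ := QCoh.exists_pow_smul_eq_map (ProjUPX.isQCoh_of_isInvertible hL) hW r (G • e)
  change AModX.res L hDW a = AModX.resR hDW r ^ n • (G • e) at ha
  have hq : AModX.res _ (t.preimage_mono hDW) (InvX.pullElt t a - t.app W r ^ n • s) = 0 := by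
    rw [map_sub, InvX.res_pullElt t hDW, ha, InvX.pullElt_smul, InvX.pullElt_smul, hG, AModX.res_smul,
      map_pow, map_pow, hg, sub_eq_zero]
    congr 2
    exact app_rs t hDW r
  have hD : t ⁻¹ᵁ D = Z₀.basicOpen (t.app W r) := Scheme.preimage_basicOpen t r
  obtain ⟨m, hm⟩ := QCoh.exists_pow_smul_eq_zero
    (ProjUPX.isQCoh_of_isInvertible (PicClLib.isInvertible_pullback t hL)) (hW.preimage t) (t.app W r) _
    (show AModX.res _ (Z₀.basicOpen_le (t.app W r)) (InvX.pullElt t a - t.app W r ^ n • s) = 0 by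
      rw [← AModX.res_res (t.preimage_mono hDW) hD.ge, hq, map_zero])
  have hmem : r ^ (m + n + 1) ∈ I' := by
    refine ⟨r ^ (m + 1) • a, ?_⟩
    rw [InvX.pullElt_smul, map_pow, map_pow]
    rw [smul_sub, sub_eq_zero, ← mul_smul, ← pow_add] at hm
    rw [pow_succ', mul_smul, hm, ← mul_smul, ← pow_succ']
  exact Opens.mem_iSup.mpr ⟨⟨_, hmem⟩, by rw [Scheme.basicOpen_pow _ _ (Nat.succ_pos _)]; exact hpr⟩

variable (ht : Function.Surjective t) [Z₀.IsSeparated]
  (hsq : ∀ U : Z.Opens, IsAffineOpen U → ∀ c d : Γ(Z, U), t.app U c = 0 → t.app U d = 0 → c * d = 0)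

include ht hsq in
/-- A section on the thickened scheme has a power whose locus is that of a section upstairs. -/
theorem exists_section_locus_eq (hL : PicF.IsInvertible L) [CompactSpace Z]
    (s : Γ((Scheme.Modules.pullback t).obj L, t ⁻¹ᵁ ⊤)) (W : Z.Opens) (hW : IsAffineOpen W)
    (hpre : t ⁻¹ᵁ W = AmpleX.locus s) :
    ∃ (n : ℕ) (b : Γ(CohB1.tensorPow L (n + 1), ⊤)), AmpleX.locus b = W := by
  classical
  have hcov₀ : ∀ p : Z, ∃ U : Z.affineOpens, p ∈ U.1 ∧ ∃ e : Γ(L, U.1), InvX.IsFrame e := fun p => by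
    obtain ⟨V, hpV, e, he⟩ := InvX.exists_frame hL p
    obtain ⟨U, hU, hpU, hle⟩ := exists_isAffineOpen_mem_and_subset (x := p) (U := V) hpV
    exact ⟨⟨U, hU⟩, hpU, _, he.res hle⟩
  choose U₀ hU₀ e₀ he₀ using hcov₀
  obtain ⟨F, hF⟩ := isCompact_univ.elim_finite_subcover (fun p => (((U₀ p).1 : Z.Opens) : Set Z))
    (fun p => (U₀ p).1.2) fun p _ => Set.mem_iUnion.mpr ⟨p, hU₀ p⟩
  let U : F → Z.Opens := fun j => (U₀ j.1).1
  have hU : ∀ j, IsAffineOpen (U j) := fun j => (U₀ j.1).2
  let e : ∀ j, Γ(L, U j) := fun j => e₀ j.1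
  have he : ∀ j, InvX.IsFrame (e j) := fun j => he₀ j.1
  have hcov : ∀ p : Z, ∃ j, p ∈ U j := fun p => by
    obtain ⟨q, hq, hp⟩ := Set.mem_iUnion₂.mp (hF (Set.mem_univ p))
    exact ⟨⟨q, hq⟩, hp⟩
  have hU2 : ∀ j l, IsAffineOpen (U j ⊓ U l) := fun j l => by
    refine isAffineOpen_of_preimage t ht ?_
    exact ((hU j).preimage t).inf ((hU l).preimage t)
  choose g hg using fun j => (InvX.isFrame_pullElt t (he j)).exists_coord le_rfl
    (AModX.res _ (t.preimage_mono (le_top : U j ≤ ⊤)) s)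
  simp only [AModX.res_self] at hg
  choose G hG using fun j => t.app_surjective (U j) (hU j) (g j)
  have hGo : ∀ j, U j ⊓ W = Z.basicOpen (G j) := fun j => by
    refine preimage_inj t ht ?_
    rw [Scheme.preimage_basicOpen, hG, ← AmpleX.locus_inf s (t.preimage_mono le_top)
      (InvX.isFrame_pullElt t (he j)) (hg j), ← hpre, inf_comm (t ⁻¹ᵁ W)]
    rfl
  obtain ⟨σ, hσ⟩ := exists_pullElt_eq t hL hW (AModX.res _ (t.preimage_mono (le_top : W ≤ ⊤)) s)
  choose x hx using fun j => (he j).exists_coord (inf_le_left : U j ⊓ W ≤ U j)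
    (AModX.res L (inf_le_right : U j ⊓ W ≤ W) σ)
  choose u hu using fun j l => (he j).exists_coord (inf_le_left : U j ⊓ U l ≤ U j)
    (AModX.res L (inf_le_right : U j ⊓ U l ≤ U l) (e l))
  let c : ∀ j, Γ(Z, U j ⊓ W) := fun j => rs Z inf_le_left (G j) - x j
  have hc : ∀ j, t.app _ (c j) = 0 := fun j => by
    simp only [c, map_sub, app_rs, hG, sub_eq_zero]
    refine (InvX.isFrame_pullElt t (he j)).coord_unique (t.preimage_mono inf_le_left) ?_
    have h1 := congrArg (InvX.pullElt t) (hx j)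
    rw [InvX.pullElt_smul, ← InvX.res_pullElt t inf_le_right, hσ, AModX.res_res,
      ← InvX.res_pullElt t inf_le_left] at h1
    have h2 := congrArg (AModX.res _ (t.preimage_mono (inf_le_left : U j ⊓ W ≤ U j))) (hg j)
    rw [AModX.res_smul, AModX.res_res] at h2
    exact h2.symm.trans h1
  choose n y hy hyr using fun j => exists_ext t ht (hU j) (G j) inf_le_left (hGo j) (c j) (hc j)
  let N := Finset.univ.sup n
  let y' : ∀ j, Γ(Z, U j) := fun j => G j ^ (N - n j) * y j
  have hy' : ∀ j, t.app _ (y' j) = 0 := fun j => by simp [y', hy]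
  have hyr' : ∀ j, rs Z inf_le_left (y' j) = rs Z inf_le_left (G j) ^ N * c j := by
    intro j
    have hle : n j ≤ N := Finset.le_sup (f := n) (Finset.mem_univ j)
    simp only [y', map_mul, map_pow]
    rw [hyr, ← mul_assoc, ← pow_add, Nat.sub_add_cancel hle]
  let H : ∀ j l, Γ(Z, U j ⊓ U l) := fun j _ => rs Z inf_le_left (G j)
  have hHu : ∀ j l, t.app _ (u j l * rs Z inf_le_right (G l)) = t.app _ (H j l) := by
    intro j l
    refine (InvX.isFrame_pullElt t (he j)).coord_unique (t.preimage_mono inf_le_left) ?_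
    have h1 := congrArg (AModX.res _ (t.preimage_mono (inf_le_left : U j ⊓ U l ≤ U j))) (hg j)
    have h2 := congrArg (AModX.res _ (t.preimage_mono (inf_le_right : U j ⊓ U l ≤ U l))) (hg l)
    have h3 := congrArg (InvX.pullElt t) (hu j l)
    rw [InvX.pullElt_smul, ← InvX.res_pullElt t inf_le_right, ← InvX.res_pullElt t inf_le_left] at h3
    rw [AModX.res_smul, AModX.res_res] at h1 h2
    rw [h3, ← mul_smul] at h2
    simp only [H, map_mul, app_rs, hG]
    rw [mul_comm (t.app (U j ⊓ U l) (u j l))]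
    exact h2.symm.trans h1
  let cc : ∀ j l, Γ(Z, U j ⊓ U l) := fun j l => H j l - u j l * rs Z inf_le_right (G l)
  have hcc : ∀ j l, t.app _ (cc j l) = 0 := fun j l => by
    simp only [cc, map_sub, hHu, sub_self]
  let d : ∀ j l, Γ(Z, U j ⊓ U l) := fun j l =>
    rs Z inf_le_left (y' j) - u j l ^ (N + 1) * rs Z inf_le_right (y' l) - H j l ^ N * cc j l
  have hd : ∀ j l, ∃ m, H j l ^ m * d j l = 0 := by
    intro j l
    have e1 : U j ⊓ U l ⊓ W = Z.basicOpen (H j l) := by
      show _ = Z.basicOpen (Z.presheaf.map _ (G j))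
      rw [Scheme.basicOpen_res, ← hGo]
      ac_rfl
    have aff : IsAffineOpen (U j ⊓ U l ⊓ W) := e1 ▸ (hU2 j l).basicOpen _
    refine exists_pow_mul_eq_zero t ht (hU2 j l) _ inf_le_left e1 _ ?_
    let V := U j ⊓ U l ⊓ W
    have hjl : V ≤ U j ⊓ U l := inf_le_left
    have hj : V ≤ U j := inf_le_left.trans inf_le_left
    have hl : V ≤ U l := inf_le_left.trans inf_le_right
    have hjW : V ≤ U j ⊓ W := le_inf hj inf_le_right
    have hlW : V ≤ U l ⊓ W := le_inf hl inf_le_right
    have a1 : rs Z hj (y' j) = rs Z hj (G j) ^ N * rs Z hjW (c j) := by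
      have := congr(rs Z hjW $(hyr' j))
      simpa [rs_rs] using this
    have a2 : rs Z hl (y' l) = rs Z hl (G l) ^ N * rs Z hlW (c l) := by
      have := congr(rs Z hlW $(hyr' l))
      simpa [rs_rs] using this
    have a3 : (rs Z hjl (u j l) * rs Z hl (G l)) ^ N * rs Z hlW (c l) =
        rs Z hj (G j) ^ N * rs Z hlW (c l) := by
      refine mul_congr t hsq aff ?_ (by rw [app_rs, hc, map_zero])
      have h1 := congrArg (rs Z₀ (pre_le t hjl)) (hHu j l)
      simp only [H, map_mul, app_rs, rs_rs] at h1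
      simp only [map_pow, map_mul]
      erw [app_rs t hjl, app_rs t hl, app_rs t hj]
      exact congrArg (· ^ N) h1
    have hxx : rs Z hjW (x j) = rs Z hjl (u j l) * rs Z hlW (x l) := by
      refine (he j).coord_unique hj ?_
      have h1 := congrArg (AModX.res L hjW) (hx j)
      have h2 := congrArg (AModX.res L hlW) (hx l)
      have h3 := congrArg (AModX.res L hjl) (hu j l)
      rw [AModX.res_smul, AModX.res_res, AModX.res_res] at h1 h2 h3
      rw [h3, ← mul_smul] at h2
      rw [mul_comm]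
      exact h1.symm.trans h2
    have a4 : rs Z hjW (c j) - rs Z hjl (u j l) * rs Z hlW (c l) = rs Z hjl (cc j l) := by
      simp only [c, cc, H, map_sub, map_mul, rs_rs]
      linear_combination -hxx
    simp only [d, H, map_sub, map_mul, map_pow, rs_rs]
    rw [← a4]
    erw [a1, a2]
    linear_combination -(rs Z hjl (u j l)) * a3
  choose m hm using hd
  let M := Finset.univ.sup fun p : F × F => m p.1 p.2
  have hM : ∀ j l, H j l ^ M * d j l = 0 := by
    intro j l
    have hle : m j l ≤ M := Finset.le_sup (f := fun p : F × F => m p.1 p.2) (Finset.mem_univ (j, l))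
    rw [← Nat.sub_add_cancel hle, pow_add, mul_assoc, hm, mul_zero]
  let b : ∀ j, Γ(Z, U j) := fun j => G j ^ M * y' j
  have hbc : ∀ j l, rs Z inf_le_left (b j) - u j l ^ (M + N + 1) * rs Z inf_le_right (b l) =
      H j l ^ (M + N) * cc j l := by
    intro j l
    have e1 : (u j l * rs Z inf_le_right (G l)) ^ M * rs Z inf_le_right (y' l) =
        H j l ^ M * rs Z inf_le_right (y' l) := by
      refine mul_congr t hsq (hU2 j l) ?_ (by rw [app_rs, hy', map_zero])
      simp only [map_pow, hHu]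
    have := hM j l
    simp only [d, H] at this e1 ⊢
    simp only [b, map_mul, map_pow]
    linear_combination this - u j l ^ (N + 1) * e1
  let E := M + N
  let X' : ∀ j, Γ(Z, U j) := fun j => G j ^ (E + 1) - ((E + 1 : ℕ) : Γ(Z, U j)) * b j
  have hX : ∀ j l, rs Z inf_le_left (X' j) = u j l ^ (E + 1) * rs Z inf_le_right (X' l) := by
    intro j l
    have hp := pow_sub_of_sq (H j l) (u j l * rs Z inf_le_right (G l))
      (hsq _ (hU2 j l) _ _ (hcc j l) (hcc j l)) E
    have := hbc j l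
    simp only [X', map_sub, map_mul, map_pow, map_natCast]
    simp only [H, cc, E] at this hp ⊢
    linear_combination hp - ((M + N + 1 : ℕ) : Γ(Z, U j ⊓ U l)) * this
  obtain ⟨B, hB, -⟩ := AModX.existsUnique_glue (M := CohB1.tensorPow L (E + 1)) U (fun j => le_top)
    (V := ⊤) (fun p _ => hcov p) (fun j => X' j • AmpleX.powElt (e j) (E + 1)) fun j l => by
      rw [AModX.res_smul, AModX.res_smul, AmpleX.res_powElt, AmpleX.res_powElt, hu j l, AmpleX.powElt_smul,
        ← mul_smul]
      exact congrArg (· • _) ((hX j l).trans (mul_comm _ _))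
  refine ⟨E, B, ?_⟩
  have hloc : ∀ j, AmpleX.locus B ⊓ U j = W ⊓ U j := fun j => by
    rw [AmpleX.locus_inf B le_top (AmpleX.isFrame_powElt (he j) _) (hB j), inf_comm W, hGo]
    refine preimage_inj t ht ?_
    rw [Scheme.preimage_basicOpen, Scheme.preimage_basicOpen]
    simp only [X', b, map_sub, map_mul, map_pow, hy', mul_zero, sub_zero]
    exact Scheme.basicOpen_pow _ _ (Nat.succ_pos _)
  refine Opens.ext (Set.ext fun p => ?_)
  obtain ⟨j, hj⟩ := hcov p
  have h := SetLike.ext_iff.mp (hloc j) p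
  exact ⟨fun hp => (h.1 ⟨hp, hj⟩).1, fun hp => (h.2 ⟨hp, hj⟩).1⟩

omit [Z₀.IsSeparated] in
include ht hsq in
/-- An invertible module is ample if it is ample on a square-zero thickened subscheme. -/
theorem isAmple_of_sqZero (hL : PicF.IsInvertible L)
    (h : CohB1.IsAmple ((Scheme.Modules.pullback t).obj L)) : CohB1.IsAmple L := by
  haveI : Z₀.IsSeparated := AmpleX.isSeparated_of_isAmple h
  obtain ⟨-, hc, hx⟩ := AmpleX.isAmple_iff.1 h
  haveI : CompactSpace Z₀ := hc
  haveI : CompactSpace Z := compact_of_surjective t ht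
  refine AmpleX.isAmple_iff.2 ⟨hL, inferInstance, fun p => ?_⟩
  obtain ⟨z, rfl⟩ := ht p
  obtain ⟨m, hm, s, hzs, hs⟩ := hx z
  rw [AmpleX.genLocus_eq_locus] at hzs hs
  obtain ⟨s', hs'⟩ := AmpleX.exists_locus_cl (N := (Scheme.Modules.pullback t).obj (CohB1.tensorPow L m))
    (show PicF.cl (CohB1.tensorPow ((Scheme.Modules.pullback t).obj L) m) =
        PicF.pullCl t (PicF.cl (CohB1.tensorPow L m)) by
      rw [cl_tensorPow, cl_tensorPow, pullCl_pow]; rfl) (U := (⊤ : Z₀.Opens)) (InvX.one s)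
  let W : Z.Opens := ⟨t '' (AmpleX.locus (InvX.one s) : Set Z₀), by
    have hh : IsHomeomorph t.base :=
      isHomeomorph_iff_isEmbedding_surjective.2 ⟨t.isClosedEmbedding.isEmbedding, ht⟩
    exact hh.isOpenMap _ (AmpleX.locus (InvX.one s)).2⟩
  have hpre : t ⁻¹ᵁ W = AmpleX.locus (InvX.one s) :=
    Opens.ext (Set.preimage_image_eq _ t.isClosedEmbedding.injective)
  have hWa : IsAffineOpen W := isAffineOpen_of_preimage t ht (hpre ▸ hs)
  obtain ⟨n, b, hb⟩ := exists_section_locus_eq t ht hsq (InvX.isInvertible_tensorPow hL m) s' W hWa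
    (hpre.trans hs'.symm)
  obtain ⟨b', hb'⟩ := AmpleX.exists_locus_cl (N := CohB1.tensorPow L (m * (n + 1)))
    (show PicF.cl (CohB1.tensorPow (CohB1.tensorPow L m) (n + 1)) = _ by
      rw [cl_tensorPow, cl_tensorPow, cl_tensorPow, pow_mul]) b
  refine ⟨m * (n + 1), by positivity, InvX.ofSect b', ?_⟩
  rw [AmpleX.genLocus_eq_locus, InvX.one_ofSect, hb', hb]
  exact ⟨⟨z, hzs, rfl⟩, hWa⟩

end Groth.Agent.AmpleThick17
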